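import Cfsg.Agent.H889.Enum.UBS

/-!
# S5745, layer UB: the cube term with a lower bound for the order of the factor (helper313)

`card_le_cube` : the bound of helper889 (`H889/Enum/UBS.lean`) where the term `|A| ^ 3 / 12744000` for the products `S ^ k`,
`k ≥ 2`, is replaced by `|A| ^ 3 / (m ^ 3 (m - 1))`, if every nonsolvable simple group `S` with `|S| ^ 2 ∣ |A|` has order at
least `m`.
-/

set_option autoImplicit false

namespace Cfsg.Agent.H313.EPX.Cube

open Subgroup Cfsg.Agent.H284 Cfsg.Agent.H59.EP Cfsg.Agent.H889.Enum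
open scoped commutatorElement

universe u

/-- the lower bound for the factors -/
def MinF (m n : ℕ) : Prop :=
  ∀ (T : Type) [Group T] [Finite T], IsSimpleGroup T → ¬ Group.IsSolvable T → Nat.card T ^ 2 ∣ n → m ≤ Nat.card T

theorem MinF.mono {m n N : ℕ} (h : MinF m N) (hd : n ∣ N) : MinF m n :=
  fun T _ _ h1 h2 h3 => h T h1 h2 (h3.trans hd)

/-- **characteristically simple groups** -/
theorem char_simple_min (hg : TwoGen.{0}) {X : Type*} [Group X] [Finite X] [Nontrivial X]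
    (hc : ∀ Y : Subgroup X, Y.Characteristic → Y = ⊥ ∨ Y = ⊤) (hcard : Nat.card X < 60 ^ 61) {m : ℕ}
    (hm : MinF m (Nat.card X)) :
    (∃ s : ℕ, s.Prime ∧ s ∣ Nat.card X ∧ ElAb s (⊤ : Subgroup X)) ∨
      ((IsSimpleGroup X ∧ ¬ Group.IsSolvable X) ∧ ∃ a b : X, closure ({a, b} : Set X) = ⊤) ∨
      m ^ 3 * (m - 1) ≤ {p : X × X × X | closure ({p.1, p.2.1, p.2.2} : Set X) = ⊤}.ncard := by
  by_cases hcomm : ∀ a b : X, a * b = b * a
  · exact Or.inl (elab_of_comm hc hcomm)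
  right
  obtain ⟨T, hT1, hT2, n, hn, ⟨e⟩⟩ := Cfsg.Agent.S5914.result.1 hc
  have h0 : 0 < n := by omega
  -- `T` is finite
  have hTf : Finite T := Finite.of_injective (fun t : T => e.symm (Pi.mulSingle ⟨0, h0⟩ t)) fun t s h =>
    Pi.mulSingle_injective _ (e.symm.injective h)
  have hTc : ¬ ∀ a b : T, a * b = b * a := by
    intro h
    apply hcomm
    intro a b
    apply e.injective
    rw [map_mul, map_mul]
    ext i
    exact h _ _
  have hTs : ¬ Group.IsSolvable T := by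
    intro h
    have h1 : commutator T < ⊤ := Group.IsSolvable.commutator_lt_top_of_nontrivial T
    rcases hT2.eq_bot_or_eq_top_of_normal (commutator T) inferInstance with h2 | h2
    · apply hTc
      intro a b
      have h1 : ⁅a, b⁆ ∈ commutator T := commutator_mem_commutator (mem_top _) (mem_top _)
      rw [h2, mem_bot, commutatorElement_eq_one_iff_mul_comm] at h1
      exact h1
    · exact h1.ne h2
  have h60 := Cfsg.Agent.H168.NoSolv.sixty_le hTs
  obtain ⟨a, b, hab⟩ := hg T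
  have hXc : Nat.card X = Nat.card T ^ n := by
    rw [Nat.card_congr e.toEquiv, Nat.card_pi, Finset.prod_const, Finset.card_univ, Fintype.card_fin]
  rcases Nat.lt_or_ge n 2 with h2 | h2
  · left
    obtain rfl : n = 1 := by omega
    let E : T ≃* X := (MulEquiv.piUnique (fun _ : Fin 1 => T)).symm.trans e.symm
    refine ⟨⟨E.symm.isSimpleGroup, fun h => hTs ?_⟩, E a, E b, ?_⟩
    · exact Group.isSolvable_of_isSolvable_injective (f := E.toMonoidHom) E.injective
    · have h3 : ({E a, E b} : Set X) = E.toMonoidHom '' {a, b} := by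
        rw [Set.image_pair]
        rfl
      rw [h3, ← MonoidHom.map_closure, hab]
      exact Subgroup.map_top_of_surjective _ E.surjective
  · right
    have hnT : n ≤ Nat.card T := by
      by_contra hlt
      push Not at hlt
      have h3 : 60 ^ 61 ≤ Nat.card T ^ n :=
        (Nat.pow_le_pow_left h60 61).trans (Nat.pow_le_pow_right (by omega) (by omega))
      rw [← hXc] at h3
      omega
    have h4 := card_triples (ι := Fin n) hTc hab (by rwa [Fintype.card_fin]) (by rwa [Fintype.card_fin])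
    have hmT : m ≤ Nat.card T := hm T hT2 hTs (by rw [hXc]; exact pow_dvd_pow _ h2)
    have h5 : m ^ 3 * (m - 1) ≤ Nat.card T ^ 3 * (Nat.card T - 1) :=
      Nat.mul_le_mul (Nat.pow_le_pow_left hmT 3) (Nat.sub_le_sub_right hmT 1)
    refine h5.trans (h4.trans (le_of_eq ?_))
    -- transport along `e`
    refine Set.ncard_congr (fun p _ => (e.symm p.1, e.symm p.2.1, e.symm p.2.2)) ?_ ?_ ?_
    · intro p hp
      show closure ({e.symm p.1, e.symm p.2.1, e.symm p.2.2} : Set X) = ⊤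
      have h3 : ({e.symm p.1, e.symm p.2.1, e.symm p.2.2} : Set X) =
          e.symm.toMonoidHom '' {p.1, p.2.1, p.2.2} := by
        rw [Set.image_insert_eq, Set.image_pair]
        rfl
      rw [h3, ← MonoidHom.map_closure, show Subgroup.closure _ = ⊤ from hp]
      exact Subgroup.map_top_of_surjective _ e.symm.surjective
    · rintro ⟨p1, p2, p3⟩ ⟨q1, q2, q3⟩ _ _ h
      simp only [Prod.mk.injEq, EmbeddingLike.apply_eq_iff_eq] at h
      obtain ⟨rfl, rfl, rfl⟩ := h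
      rfl
    · rintro ⟨q1, q2, q3⟩ hq
      refine ⟨(e q1, e q2, e q3), ?_, ?_⟩
      · show closure ({e q1, e q2, e q3} : Set (Fin n → T)) = ⊤
        have h3 : ({e q1, e q2, e q3} : Set (Fin n → T)) = e.toMonoidHom '' {q1, q2, q3} := by
          rw [Set.image_insert_eq, Set.image_pair]
          rfl
        rw [h3, ← MonoidHom.map_closure, show Subgroup.closure _ = ⊤ from hq]
        exact Subgroup.map_top_of_surjective _ e.surjective
      · simp

section count

variable {B : Type u} [Group B]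

theorem ncard_le_cube [Finite B] (hg : TwoGen.{0}) (hB : Nat.card B < 60 ^ 61)
    {𝓜 : Set (Subgroup B)} {c : ℕ} (hc6 : c ≤ Nat.card B / 6) (hc : ∀ M ∈ 𝓜, M.index ≤ c) (hnt : ∀ M ∈ 𝓜, M ≠ ⊥)
    (hch : ∀ M ∈ 𝓜, ∀ K : Subgroup M, K.Characteristic → K ≠ ⊥ → ∀ b : B,
      (∀ k ∈ K.map M.subtype, b * k * b⁻¹ ∈ K.map M.subtype) → b ∈ M)
    {m : ℕ} (hm2 : 2 ≤ m) (hm : MinF m (Nat.card B)) :
    𝓜.ncard ≤ ∑ s ∈ (Nat.card B).primeFactors, gal s ((Nat.card B).factorization s) *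
        (Nat.card B / max 6 (s ^ (Nat.card B).factorization s)) + Nat.card B ^ 2 / 120 +
        Nat.card B ^ 3 / (m ^ 3 * (m - 1)) := by
  classical
  have key : ∀ M ∈ 𝓜, ∃ X : Subgroup B, normalizer (X : Set B) = M ∧
      ((∃ s ∈ (Nat.card B).primeFactors, ElAb s X ∧ X ≠ ⊥) ∨
        ((IsSimpleGroup X ∧ ¬ Group.IsSolvable X) ∧ ∃ a b : X, closure ({a, b} : Set X) = ⊤) ∨
        m ^ 3 * (m - 1) ≤ {p : X × X × X | closure ({p.1, p.2.1, p.2.2} : Set X) = ⊤}.ncard) := by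
    intro M hM
    obtain ⟨X, h1, _, h3, h4⟩ := exists_key (hnt M hM) (hch M hM)
    refine ⟨X, h1, ?_⟩
    have hXn : Nontrivial X := (Subgroup.nontrivial_iff_ne_bot X).2 h3
    have hXB : Nat.card X ∣ Nat.card B := Subgroup.card_subgroup_dvd_card X
    rcases char_simple_min hg h4 ((Nat.le_of_dvd Nat.card_pos hXB).trans_lt hB) (hm.mono hXB) with
      ⟨s, hs, hsd, hel⟩ | h | h
    · left
      refine ⟨s, Nat.mem_primeFactors.2 ⟨hs, hsd.trans hXB, Nat.card_pos.ne'⟩, ⟨?_, ?_⟩, h3⟩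
      · intro a ha b hb
        exact Subtype.ext_iff.1 (hel.comm ⟨a, ha⟩ (mem_top _) ⟨b, hb⟩ (mem_top _))
      · intro a ha
        exact Subtype.ext_iff.1 (hel.exp ⟨a, ha⟩ (mem_top _))
    · exact Or.inr (Or.inl h)
    · exact Or.inr (Or.inr h)
  choose! f hf1 hf2 using key
  have hinj : Set.InjOn f 𝓜 := by
    intro M hM N hN e
    rw [← hf1 M hM, ← hf1 N hN, e]
  rw [← hinj.ncard_image]
  have hsub : f '' 𝓜 ⊆ ((⋃ s ∈ (Nat.card B).primeFactors,
      {X : Subgroup B | ElAb s X ∧ X ≠ ⊥ ∧ (normalizer (X : Set B)).index ≤ c}) ∪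
      {X : Subgroup B | (IsSimpleGroup X ∧ ¬ Group.IsSolvable X) ∧ ∃ a b : X, closure ({a, b} : Set X) = ⊤}) ∪
      {X : Subgroup B | m ^ 3 * (m - 1) ≤ {p : X × X × X | closure ({p.1, p.2.1, p.2.2} : Set X) = ⊤}.ncard} := by
    rintro _ ⟨M, hM, rfl⟩
    rcases hf2 M hM with ⟨s, hs, h1, h2⟩ | h | h
    · left
      left
      simp only [Set.mem_iUnion]
      exact ⟨s, hs, h1, h2, by rw [hf1 M hM]; exact hc M hM⟩
    · left
      right
      exact h
    · right
      exact h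
  refine (Set.ncard_le_ncard hsub (Set.toFinite _)).trans ((Set.ncard_union_le _ _).trans (Nat.add_le_add
    ((Set.ncard_union_le _ _).trans (Nat.add_le_add ?_ ?_)) ?_))
  · have hun : ∀ I : Finset ℕ, (⋃ s ∈ I, {X : Subgroup B | ElAb s X ∧ X ≠ ⊥ ∧
        (normalizer (X : Set B)).index ≤ c}).ncard ≤
        ∑ s ∈ I, {X : Subgroup B | ElAb s X ∧ X ≠ ⊥ ∧ (normalizer (X : Set B)).index ≤ c}.ncard := by
      intro I
      induction I using Finset.induction_on with
      | empty => simp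
      | insert j I hj ih =>
        rw [Finset.sum_insert hj, Finset.set_biUnion_insert]
        exact (Set.ncard_union_le _ _).trans (Nat.add_le_add_left ih _)
    refine (hun _).trans ?_
    exact Finset.sum_le_sum fun s hs => ncard_elab_max (Nat.prime_of_mem_primeFactors hs) hc6
  · refine ncard_pair_le (by norm_num) ?_
    rintro X ⟨⟨h1, h2⟩, a, b, hab⟩
    exact (aut_ge h2).trans (card_mulAut_le hab)
  · exact ncard_triple_le (Nat.mul_pos (pow_pos (by omega) 3) (by omega)) (fun X hX => hX)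

end count

section ept

variable {Q : Type u} [Group Q] [Finite Q] {A : Subgroup Q} {Γ : Subgroup (MulAut Q)}

theorem EPT.ncard_le_cube (h : EPT A Γ) (hg : TwoGen.{0})
    (hab : ∀ K : Subgroup Q, K ≤ A → (∀ a ∈ A, ∀ k ∈ K, a * k * a⁻¹ ∈ K) → (∀ a ∈ K, ∀ b ∈ K, a * b = b * a) → K = ⊥)
    (hB : Nat.card A < 60 ^ 61) {m : ℕ} (hm2 : 2 ≤ m) (hm : MinF m (Nat.card A)) :
    {M : Subgroup Q | ∃ x, x ∉ A ∧ M = A ⊓ cj x A}.ncard ≤
      sg (Nat.card A) (Nat.card A) + Nat.card A ^ 2 / 120 + Nat.card A ^ 3 / (m ^ 3 * (m - 1)) := by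
  obtain ⟨𝓜, h1, h2, h3, _, h4⟩ := EPT.transfer h (by norm_num : 0 < 6) fun _ hx => EPT.six_le h hab hx
  exact h1.trans (Cfsg.Agent.H313.EPX.Cube.ncard_le_cube hg hB le_rfl h2 h3 h4 hm2 hm)

/-- **UB2, sharper form**, `|A|` divides the number with factorisation `l` -/
theorem EPT.ncard_le_cube_list (h : EPT A Γ) (hg : TwoGen.{0})
    (hab : ∀ K : Subgroup Q, K ≤ A → (∀ a ∈ A, ∀ k ∈ K, a * k * a⁻¹ ∈ K) → (∀ a ∈ K, ∀ b ∈ K, a * b = b * a) → K = ⊥)
    (l : List (ℕ × ℕ)) (h1 : ∀ x ∈ l, x.1.Prime ∧ 0 < x.2) (h2 : (l.map Prod.fst).Nodup)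
    {N : ℕ} (hN : (l.map fun x => x.1 ^ x.2).prod = N) (hc : Nat.card A ∣ N) (hB : N < 60 ^ 61)
    {m : ℕ} (hm2 : 2 ≤ m) (hm : MinF m N) :
    {M : Subgroup Q | ∃ x, x ∉ A ∧ M = A ⊓ cj x A}.ncard ≤
      (l.map fun x => gal x.1 x.2 * (N / max 6 (x.1 ^ x.2))).sum + N ^ 2 / 120 + N ^ 3 / (m ^ 3 * (m - 1)) := by
  obtain ⟨-, i2, -⟩ := galSum_list l h1 h2
  rw [hN] at i2
  have hle : Nat.card A ≤ N := Nat.le_of_dvd (Nat.pos_of_ne_zero i2) hc
  have h3 := EPT.ncard_le_cube h hg hab (hle.trans_lt hB) hm2 (hm.mono hc)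
  refine h3.trans (Nat.add_le_add (Nat.add_le_add ?_ (Nat.div_le_div_right (Nat.pow_le_pow_left hle 2)))
    (Nat.div_le_div_right (Nat.pow_le_pow_left hle 3)))
  have h4 := sum_list (fun s v => gal s v * (N / max 6 (s ^ v))) l h1 h2
  rw [hN] at h4
  rw [← h4]
  exact sg_mono hc i2

end ept

/-! ### the bound for `|G|` -/

section bound

open Cfsg.Agent.H209.EPX Cfsg.Agent.H226.EX

variable {G : Type} [Group G] [Finite G] [IsSimpleGroup G] {H N : Subgroup G} {T : Type} [Group T]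

/-- the bound -/
def ubc (l : List (ℕ × ℕ)) (B m : ℕ) : ℕ :=
  (1 + ((l.map fun x => gal x.1 x.2 * (B / max 6 (x.1 ^ x.2))).sum + B ^ 2 / 120 + B ^ 3 / (m ^ 3 * (m - 1))) *
    (2 * (B / 6))) * B

/-- **the bound for `|G|`** with the cube term of the factors -/
theorem card_le_cube (hg : TwoGen.{0}) {k : ℕ} {e : N ≃* (Fin k → T)} (h : EPS H N e) {B : ℕ}
    (hd : Nat.card H ∣ B) (l : List (ℕ × ℕ)) (h1 : ∀ x ∈ l, x.1.Prime ∧ 0 < x.2) (h2 : (l.map Prod.fst).Nodup)
    (hB : (l.map fun x => x.1 ^ x.2).prod = B) (hlt : B < 60 ^ 61)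
    {m : ℕ} (hm2 : 2 ≤ m) (hm : MinF m B) : Nat.card G ≤ ubc l B m := by
  have hB0 : 0 < B := by
    obtain ⟨_, i2, _⟩ := galSum_list l h1 h2
    rw [hB] at i2
    omega
  have h5 : Nat.card H ≤ B := Nat.le_of_dvd hB0 hd
  have h3 := EPT.ncard_le_cube_list (ept_of_eps h) hg (hab_of_eps h) l h1 h2 hB hd hlt hm2 hm
  have h4 := index_le_of h3 (Cfsg.Agent.H173.EP.ub1 inferInstance (ept_of_eps h) (by norm_num)
    fun _ hx => EPT.six_le (ept_of_eps h) (hab_of_eps h) hx) le_rfl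
  rw [← H.index_mul_card, ubc]
  refine Nat.mul_le_mul (h4.trans (Nat.add_le_add_left (Nat.mul_le_mul_left _ ?_) 1)) h5
  exact Nat.mul_le_mul_left 2 (Nat.div_le_div_right h5)

end bound

end Cfsg.Agent.H313.EPX.Cube
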