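import Cfsg.Agent.H313.EPX.Cube
import Cfsg.Agent.H313.EPX.F4Cross
import Cfsg.Agent.S0496

/-!
# S5745: no extremely primitive `³D₄(2)` in `F₄(5)` (helper313)

`|Aut ³D₄(2)| = 2 ^ 12 · 3 ^ 5 · 7 ^ 2 · 13`: a nonsolvable simple group whose order has a square dividing this number has
order at least 168.
-/

set_option autoImplicit false

namespace Cfsg.Agent.H313.EPX

open Cfsg Cfsg.Agent.OrdDiv Cfsg.Agent.H902 Cfsg.Agent.H902.Names
open Cfsg.Agent.H209.EPX Cfsg.Agent.H59.EP

/-- the minimal factors if `3600` does not divide the order -/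
theorem minF_of {n : ℕ} (h : ¬ 3600 ∣ n) : Cube.MinF 168 n := by
  intro T _ _ hs hsol hd
  by_contra hlt
  push Not at hlt
  have hna : ¬ IsMulCommutative T := fun h => hsol (Group.isSolvable_of_comm fun a b => h.is_comm.comm a b)
  have h1 : Nat.card T = 60 := by
    have h2 := Cfsg.Agent.S0496.result (G := T) hna (by omega)
    omega
  apply h
  rw [h1] at hd
  exact hd

theorem real_td4 (tab : OrderTable.{0}) {T : Type} [Group T] (h : OrdDiv.Real (.td4 2) T) :
    Art.Real .TD4 2 1 (Nat.card T) := by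
  obtain ⟨K, iK, iK', hK, ⟨e⟩⟩ := h
  refine ⟨Nat.prime_two, le_rfl, trivial, ?_⟩
  rw [Nat.card_congr e.toEquiv, tab.td4 K 2 Nat.prime_two.isPrimePow hK]
  change 1 * _ = (2 ^ 1) ^ 12 * (_ * _ * _)
  norm_num

/-- `|Aut ³D₄(2)|` -/
theorem aut_td4 (tab : OrderTable.{0}) {T : Type} [Group T] [Finite T] [IsSimpleGroup T]
    (hna : ¬ ∀ a b : T, a * b = b * a) (h : OrdDiv.Real (.td4 2) T) : Nat.card (MulAut T) = 634023936 := by
  have h1 := real_td4 tab h
  rw [aut_eq hna (.td4 2 1) h h1, oN_eq h1]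
  decide +kernel

/-- **no `³D₄(2)` in `F₄(5)`** -/
theorem row_td4_five {F : Type} [Field F] [Fintype F] [IsSimpleGroup ↥(Lie.chevF4.group F)] (hg : TwoGen.{0})
    (tab : OrderTable.{0}) (hF : Fintype.card F = 5) :
    Row1 ↥(Lie.chevF4.group F) fun T _ => OrdDiv.Real (.td4 2) T := by
  intro H N T _ _ e h hT
  have hs : IsSimpleGroup T := h.simple
  have hna : ¬ ∀ a b : T, a * b = b * a := by
    obtain ⟨a, b, hab⟩ := h.nab
    exact fun hc => hab (hc a b)
  have hd : Nat.card H ∣ 634023936 := by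
    rw [← aut_td4 tab hna hT]
    exact H226.EX.card_dvd_aut h
  have h1 := Cube.card_le_cube hg h hd [(2, 12), (3, 5), (7, 2), (13, 1)] (by
      intro x hx
      simp only [List.mem_cons, List.not_mem_nil, or_false] at hx
      rcases hx with rfl | rfl | rfl | rfl <;> norm_num) (by decide) (by norm_num) (by norm_num) (m := 168) (by norm_num)
    (minF_of (by norm_num))
  rw [tab.f4 F 5 hF] at h1
  revert h1
  rw [imp_false, not_le, Cube.ubc]
  simp only [List.map_cons, List.map_nil, ← H252.EN.galC_eq]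
  decide +kernel

end Cfsg.Agent.H313.EPX
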