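import Cfsg.Agent.H313.EPX.F4Open
import Cfsg.Agent.H476.EPX.F4RowsB
import Cfsg.Agent.H783.EX.F4TD4
import Cfsg.Agent.OrdDiv.Table

/-!
# S5745, the cell `f4.cross`: everything but the rows `L₄(3)` and Tits of `F₄(2)` (helper313)
-/

set_option autoImplicit false

namespace Cfsg.Agent.H313.EPX

open Cfsg Cfsg.Agent.OrdDiv Cfsg.Agent.H209.EPX Cfsg.Agent.H59.EP Cfsg.Agent.H542.EPX

theorem f4_near (hg : TwoGen.{0}) (hK : AllK) (F : Type) [Field F] [Fintype F] (p : ℕ) [Fact p.Prime] [CharP F p]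
    [IsSimpleGroup ↥(Lie.chevF4.group F)]
    (l43 : Fintype.card F = 2 → Row1 ↥(Lie.chevF4.group F) fun T _ => OrdDiv.Real (.psl 4 3) T)
    (tits2 : Fintype.card F = 2 → Row1 ↥(Lie.chevF4.group F) fun T _ => Lie.IsoTits T) :
    Cross p ↥(Lie.chevF4.group F) :=
  f4_cross' hK hg OrdDiv.table
    { l43 := l43
      u43 := fun h => H476.EPX.row_u43 h
      g23 := fun h => H476.EPX.row_g23 h
      l62 := fun h => H476.EPX.row_l62 h
      td42 := fun h => H783.EX.F4TD4.row_td4_three OrdDiv.table h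
      tits2 := tits2
      tits4 := fun h => H476.EPX.row_tits4 h }

end Cfsg.Agent.H313.EPX
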