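import Cfsg.Agent.H313.EPX.F4Rows
import Cfsg.Agent.H313.EPX.TD4Five

/-!
# S5745, the cell `f4.cross`: the rows which are still open or have a big closure (helper313)
-/

set_option autoImplicit false

namespace Cfsg.Agent.H313.EPX

open Cfsg Cfsg.Agent.OrdDiv Cfsg.Agent.H209.EPX Cfsg.Agent.H59.EP Cfsg.Agent.H542.EPX

/-- the bound `Ub` from `TwoGen` (the proof of `H889.Enum.ub_dvd`) -/
theorem ubK (hg : TwoGen.{0}) : UbK := by
  intro G _ _ _ H N T _ _ e h B hdv l h1 h2 hB hlt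
  have hd : Nat.card H ∣ B := (H226.EX.card_dvd_aut h).trans hdv
  have h3 : Nat.card H ∣ (l.map fun x => x.1 ^ x.2).prod := by rwa [hB]
  have h3' := EPT.ncard_le_gen_dvd (H226.EX.ept_of_eps h) hg (H226.EX.hab_of_eps h) l h1 h2 h3 (by rwa [hB])
  have h4 := index_le_of h3' (Cfsg.Agent.H173.EP.ub1 inferInstance (H226.EX.ept_of_eps h) (by norm_num)
    fun _ hx => EPT.six_le (H226.EX.ept_of_eps h) (H226.EX.hab_of_eps h) hx) le_rfl
  rw [hB] at h4
  have hB0 : 0 < B := by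
    obtain ⟨_, i2, _⟩ := galSum_list l h1 h2
    rw [hB] at i2
    omega
  have h5 : Nat.card H ≤ B := Nat.le_of_dvd hB0 hd
  rw [← H.index_mul_card, H252.EN.ubl]
  refine Nat.mul_le_mul (h4.trans (Nat.add_le_add_left (Nat.mul_le_mul_left _ ?_) 1)) h5
  exact Nat.mul_le_mul_left 2 (Nat.div_le_div_right h5)

/-- the remaining rows -/
structure OpenF4 (F : Type) [Field F] [Fintype F] : Prop where
  l43 : Fintype.card F = 2 → Row1 ↥(Lie.chevF4.group F) fun T _ => OrdDiv.Real (.psl 4 3) T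
  u43 : Fintype.card F = 2 → Row1 ↥(Lie.chevF4.group F) fun T _ => OrdDiv.Real (.psu 4 3) T
  g23 : Fintype.card F = 2 → Row1 ↥(Lie.chevF4.group F) fun T _ => OrdDiv.Real (.g2 3) T
  l62 : Fintype.card F = 5 → Row1 ↥(Lie.chevF4.group F) fun T _ => OrdDiv.Real (.psl 6 2) T
  td42 : Fintype.card F = 3 → Row1 ↥(Lie.chevF4.group F) fun T _ => OrdDiv.Real (.td4 2) T
  tits2 : Fintype.card F = 2 → Row1 ↥(Lie.chevF4.group F) fun T _ => Lie.IsoTits T
  tits4 : Fintype.card F = 4 → Row1 ↥(Lie.chevF4.group F) fun T _ => Lie.IsoTits T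

theorem OpenF4.rows {F : Type} [Field F] [Fintype F] [IsSimpleGroup ↥(Lie.chevF4.group F)] (hg : TwoGen.{0})
    (tab : OrderTable.{0}) (O : OpenF4 F) : RowsF4 F where
  alt := row_alt
  l2 := fun hF s hs => row_l2 tab hF s hs
  l43 := O.l43
  u43 := O.u43
  g23 := O.g23
  s82 := row_s82
  o8 := row_o8
  l62 := O.l62
  g24 := row_g24
  td42 := fun hF => hF.elim O.td42 fun h => row_td4_five hg tab h
  tits := fun hF => hF.elim O.tits2 fun h => h.elim row_tits3 O.tits4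

/-- the cell from the open rows -/
theorem f4_cross' {F : Type} [Field F] [Fintype F] {p : ℕ} [Fact p.Prime] [CharP F p]
    [IsSimpleGroup ↥(Lie.chevF4.group F)] (hK : AllK) (hg : TwoGen.{0}) (tab : OrderTable.{0})
    (O : OpenF4 F) : Cross p ↥(Lie.chevF4.group F) :=
  f4_cross (ubK hg) hK tab (O.rows hg tab)

end Cfsg.Agent.H313.EPX
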