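import Cfsg.Agent.H313.EPX.F4Cross
import Cfsg.Agent.H523.EPX.AltF4
import Cfsg.Agent.H929.TB.Bound
import Cfsg.Agent.H296.FN.F4Nine
import Cfsg.Agent.H357.EP.V27
import Cfsg.Agent.H357.EP.O8
import Cfsg.Agent.H545.EX.GFour
import Cfsg.Agent.H476.TF.Main

/-!
# S5745, the rows of `F₄(q)` (helper313): all rows without the `E₇(2)` tables

The finished rows in the form `Row1` of `F4Cross`.
-/

set_option autoImplicit false

namespace Cfsg.Agent.H313.EPX

open Cfsg Cfsg.Agent.OrdDiv Cfsg.Agent.H209.EPX Cfsg.Agent.H357.EP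

section

variable {F : Type} [Field F] [Fintype F]

theorem card_two (tab : OrderTable.{0}) (hF : Fintype.card F = 2) :
    Nat.card ↥(Lie.chevF4.group F) = 3311126603366400 := by
  rw [tab.f4 F 2 hF]
  norm_num

/-- alternating groups (helper523, S5926) -/
theorem row_alt (n : ℕ) (h5 : 5 ≤ n) (h6 : n ≠ 6) :
    Row1 ↥(Lie.chevF4.group F) fun T _ => Nonempty (T ≃* alternatingGroup (Fin n)) := by
  rintro H N T _ _ e h ⟨i⟩
  exact H523.EPX.f4_alt_false h h5 h6 i

/-- `PSL₂(25)`, `PSL₂(27)`, `PSL₂(49)` in `F₄(2)` (helper929) -/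
theorem row_l2 [IsSimpleGroup ↥(Lie.chevF4.group F)] (tab : OrderTable.{0}) (hF : Fintype.card F = 2) (s : ℕ)
    (hs : s = 25 ∨ s = 27 ∨ s = 49) : Row1 ↥(Lie.chevF4.group F) fun T _ => OrdDiv.Real (.psl 2 s) T := by
  rintro H N T _ _ e h ⟨K, iK, iK', hK, ⟨i⟩⟩
  exact H929.TB.row_f4_two (F := K) (card_two tab hF) h i (by rwa [hK])

/-- `Sp₈(2)` in `F₄(9)` (helper296) -/
theorem row_s82 (hF : Fintype.card F = 9) : Row1 ↥(Lie.chevF4.group F) fun T _ => OrdDiv.Real (.psp 4 2) T := by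
  intro H N T _ _ e h hT
  exact H296.FN.f4_nine F hF e h hT

theorem odd_of {F : Type} [Fintype F] (hF : Fintype.card F = 3 ∨ Fintype.card F = 5) : Odd (Fintype.card F) := by
  rcases hF with h | h <;> rw [h] <;> decide

theorem inE6_of (ho : Odd (Fintype.card F)) {N : Subgroup ↥(Lie.chevF4.group F)} {T : Type} [Group T]
    (e : N ≃* (Fin 1 → T)) : InE6 T :=
  (inE6_f4 ho (MulEquiv.refl _)).factor one_pos e

theorem charP_two {K : Type} [Field K] [Fintype K] {k : ℕ} (hk : 1 ≤ k) (hK : Fintype.card K = 2 ^ k) : CharP K 2 :=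
  H364.OutLie.charP_of_card Nat.prime_two hk hK

/-- `Ω₈⁺(2)` in `F₄(q)`, `q` odd (helper357) -/
theorem row_o8 (hF : Fintype.card F = 3 ∨ Fintype.card F = 5) :
    Row1 ↥(Lie.chevF4.group F) fun T _ => OrdDiv.Real (.oplus 4 2) T := by
  rintro H N T _ _ e h ⟨K, iK, iK', hK, ⟨i⟩⟩
  have := charP_two (k := 1) le_rfl (by rw [hK]; rfl)
  exact not_inE6_o8 (F := K) ((inE6_of (odd_of hF) e).mono i.symm.toMonoidHom i.symm.injective)

/-- `G₂(4)` in `F₄(q)`, `q` odd (helper545) -/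
theorem row_g24 (hF : Fintype.card F = 3 ∨ Fintype.card F = 5) :
    Row1 ↥(Lie.chevF4.group F) fun T _ => OrdDiv.Real (.g2 4) T := by
  rintro H N T _ _ e h ⟨K, iK, iK', hK, ⟨i⟩⟩
  exact H545.EX.not_inE6 hK i (inE6_of (odd_of hF) e)

/-- the Tits group in `F₄(3)` (helper476) -/
theorem row_tits3 (hF : Fintype.card F = 3) : Row1 ↥(Lie.chevF4.group F) fun T _ => Lie.IsoTits T := by
  intro H N T _ _ e h hT
  have := H364.OutLie.charP_of_card (F := F) Nat.prime_three (le_refl 1) (by rw [hF]; rfl)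
  exact H476.TF.no_tits_pow (MulEquiv.refl _) hT e 0

end

end Cfsg.Agent.H313.EPX
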